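import Cfsg.Prelude.Def_Perm
import Cfsg.Prelude.Def_Sporadic
import Cfsg.Agent.Lib.EqualConj4.Normal
import Cfsg.Agent.Lib.Elem70.EqualOrder

/-!
# Groups in which p-subgroups of equal order are conjugate, for every prime p

Owner: helper77.
-/

set_option autoImplicit false
set_option linter.style.haveILetI false

universe u

namespace Cfsg.Agent.Lib.EqualPrime77

open Subgroup

/-- For every prime, subgroups of the same prime power order are conjugate. -/
def PEC (X : Type u) [Group X] : Prop :=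
  ∀ p : ℕ, p.Prime → ∀ H K : Subgroup X, IsPGroup p H → IsPGroup p K → Nat.card H = Nat.card K →
    ∃ g : X, K = H.map (MulAut.conj g).toMonoidHom

/-- The list of the classification. -/
def Good (X : Type u) [Group X] : Prop :=
    (IsCyclic X ∧ IsPGroup 2 X) ∨
    Nonempty (X ≃* Cfsg.affineGroup (GaloisField 2 3)) ∨
    Nonempty (X ≃* Cfsg.semiaffineGroup (GaloisField 2 3)) ∨
    Nonempty (X ≃* Cfsg.semiaffineGroup (GaloisField 2 5)) ∨
    Cfsg.IsJ1 X ∨
    Nonempty (X ≃* Matrix.ProjectiveSpecialLinearGroup (Fin 2) (GaloisField 2 3)) ∨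
    Nonempty (X ≃* MulAut (Matrix.ProjectiveSpecialLinearGroup (Fin 2) (GaloisField 2 5))) ∨
    (∃ (p : ℕ) (_ : Fact p.Prime), (p % 8 = 3 ∨ p % 8 = 5) ∧
      (Nonempty (X ≃* Matrix.ProjectiveSpecialLinearGroup (Fin 2) (ZMod p)) ∨
       Nonempty (X ≃* Matrix.ProjectiveSpecialLinearGroup (Fin 2) (GaloisField p 3)) ∨
       Nonempty (X ≃* Matrix.SpecialLinearGroup (Fin 2) (ZMod p)) ∨
       Nonempty (X ≃* Matrix.SpecialLinearGroup (Fin 2) (GaloisField p 3))))

/-- The outcomes with a four-group as Sylow 2-subgroup. -/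
def FourList (X : Type u) [Group X] : Prop :=
  ∃ (p : ℕ) (_ : Fact p.Prime), (p % 8 = 3 ∨ p % 8 = 5) ∧
    (Nonempty (X ≃* Matrix.ProjectiveSpecialLinearGroup (Fin 2) (ZMod p)) ∨
     Nonempty (X ≃* Matrix.ProjectiveSpecialLinearGroup (Fin 2) (GaloisField p 3)))

/-- The outcome with elementary Sylow 2-subgroups of rank `n`. -/
def Outcome (n : ℕ) (X : Type u) [Group X] : Prop :=
  (n = 2 ∧ FourList X) ∨ (3 ≤ n ∧ Good X)

theorem FourList.good {X : Type u} [Group X] (h : FourList X) : Good X := by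
  obtain ⟨p, hp, h8, he⟩ := h
  refine Or.inr (Or.inr (Or.inr (Or.inr (Or.inr (Or.inr (Or.inr ⟨p, hp, h8, ?_⟩))))))
  exact he.imp_right Or.inl

theorem Outcome.good {n : ℕ} {X : Type u} [Group X] (h : Outcome n X) : Good X :=
  h.elim (fun h => h.2.good) fun h => h.2

variable {X : Type u} [Group X] [Finite X]

theorem PEC.quotient (h : PEC X) (N : Subgroup X) [N.Normal] : PEC (X ⧸ N) := fun p hp =>
  haveI : Fact p.Prime := ⟨hp⟩
  Elem70.EqualOrder.sameOrderConj_quotient (h p hp) N

/-- Subgroups of the same prime order are conjugate. -/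
theorem PEC.conj_prime (h : PEC X) {p : ℕ} (hp : p.Prime) {a b : X} (ha : orderOf a = p)
    (hb : orderOf b = p) : ∃ g : X, zpowers b = (zpowers a).map (MulAut.conj g).toMonoidHom :=
  h p hp (zpowers a) (zpowers b) (IsPGroup.of_card (n := 1) (by rw [Nat.card_zpowers, ha, pow_one]))
    (IsPGroup.of_card (n := 1) (by rw [Nat.card_zpowers, hb, pow_one]))
    (by rw [Nat.card_zpowers, Nat.card_zpowers, ha, hb])

/-- A normal subgroup with an element of prime order `p` contains all of them. -/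
theorem PEC.mem_normal (h : PEC X) {p : ℕ} (hp : p.Prime) {N : Subgroup X} [hN : N.Normal] {a b : X}
    (haN : a ∈ N) (ha : orderOf a = p) (hb : orderOf b = p) : b ∈ N := by
  obtain ⟨g, hg⟩ := h.conj_prime hp ha hb
  obtain ⟨c, hc, hcb⟩ : b ∈ (zpowers a).map (MulAut.conj g).toMonoidHom := hg ▸ mem_zpowers b
  rw [← hcb]
  exact hN.conj_mem c (zpowers_le.2 haN hc) g

/-- All involutions are conjugate. -/
theorem PEC.conj_involution (h : PEC X) {a b : X} (ha : orderOf a = 2) (hb : orderOf b = 2) :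
    ∃ g : X, g * a * g⁻¹ = b := by
  obtain ⟨g, hg⟩ := h.conj_prime Nat.prime_two ha hb
  refine ⟨g, ?_⟩
  have hmem : MulAut.conj g a ∈ zpowers b := hg ▸ ⟨a, mem_zpowers a, rfl⟩
  obtain ⟨k, hk⟩ := mem_zpowers_iff.1 hmem
  rw [MulAut.conj_apply] at hk
  rw [← zpow_mod_orderOf, hb] at hk
  rcases Int.emod_two_eq_zero_or_one k with h0 | h1
  · rw [Nat.cast_ofNat, h0, zpow_zero] at hk
    rw [eq_comm, conj_eq_one_iff] at hk
    simp [hk] at ha
  · rw [Nat.cast_ofNat, h1, zpow_one] at hk
    exact hk.symm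

/-- With trivial odd core and conjugate involutions, a nontrivial normal subgroup has all of them. -/
theorem PEC.involution_mem (h : PEC X) (hO : Cfsg.oddCore X = ⊥) {N : Subgroup X} [hN : N.Normal]
    (hNb : N ≠ ⊥) {b : X} (hb : orderOf b = 2) : b ∈ N := by
  obtain ⟨a, haN, ha⟩ := EqualConj4.exists_involution_of_normal hO hNb
  exact h.mem_normal Nat.prime_two haN ha hb

/-- The Sylow 2-subgroup lies in every nontrivial normal subgroup. -/
theorem sylow_le_normal (h : PEC X) (hO : Cfsg.oddCore X = ⊥) {T : Subgroup X}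
    (hel : Cfsg.IsElementaryAbelian 2 T) {N : Subgroup X} [N.Normal] (hN : N ≠ ⊥) : T ≤ N := by
  intro x hx
  rcases eq_or_ne x 1 with rfl | hx1
  · exact N.one_mem
  · exact h.involution_mem hO hN (EqualConj4.orderOf_eq_two_of_mem hel hx hx1)

/-- A central involution makes the elementary Sylow subgroup small. -/
theorem card_le_two_of_central (h : PEC X) {T : Subgroup X} (hel : Cfsg.IsElementaryAbelian 2 T)
    {a : X} (ha : orderOf a = 2) (hfix : ∀ g : X, g * a * g⁻¹ = a) : Nat.card T ≤ 2 := by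
  rw [← ha, ← Nat.card_zpowers]
  refine Subgroup.card_le_of_le (fun b hb => ?_)
  rcases eq_or_ne b 1 with rfl | hb1
  · exact one_mem _
  · obtain ⟨g, rfl⟩ := h.conj_involution ha (EqualConj4.orderOf_eq_two_of_mem hel hb hb1)
    rw [hfix]; exact mem_zpowers a

end Cfsg.Agent.Lib.EqualPrime77
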