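import Cfsg.Agent.Lib.EqualPrime77.Normal
import Cfsg.Agent.Lib.EqualConj4.Known

/-!
# `PSL(2, q)`, `q` even, as simple normal subgroup

After `EqualConj4.Known`.  Owner: helper77.
-/

set_option autoImplicit false
set_option linter.style.haveILetI false

universe u

namespace Cfsg.Agent.Lib.EqualPrime77

open Subgroup

variable {X : Type u} [Group X] [Finite X]

local notation "PSL2[" F "]" => Matrix.ProjectiveSpecialLinearGroup (Fin 2) F

/-- `PSL(2, q)`, `q` even. -/
theorem outcome_of_even (h : PEC X) (hO : Cfsg.oddCore X = ⊥) (T : Sylow 2 X)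
    (hel : Cfsg.IsElementaryAbelian 2 (T : Subgroup X)) {n : ℕ} (hcard : Nat.card T = 2 ^ n)
    (M : Subgroup X) [hMn : M.Normal] (hTM : (T : Subgroup X) ≤ M)
    (hC : centralizer (M : Set X) = ⊥) {m : ℕ} (F : Type) [Field F] [Fintype F] (hm : 3 ≤ m)
    (hF : Fintype.card F = 2 ^ m) (e : M ≃* PSL2[F]) : Outcome n X := by
  haveI : Fact (Nat.Prime 2) := ⟨Nat.prime_two⟩
  haveI : CharP F 2 := by
    obtain ⟨q, hq⟩ := CharP.exists F
    obtain ⟨k, hqp, hk⟩ := FiniteField.card F q
    have h1 : q ∣ 2 ^ m := by rw [← hF, hk]; exact dvd_pow_self _ k.ne_zero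
    rwa [← (Nat.prime_dvd_prime_iff_eq hqp Nat.prime_two).1 (hqp.dvd_of_dvd_pow h1)]
  have h2m : 2 ∣ 2 ^ m := dvd_pow_self _ (by omega)
  have h2m' : 8 ≤ 2 ^ m := (pow_le_pow_right₀ (by norm_num : 1 ≤ 2) hm : 2 ^ 3 ≤ 2 ^ m)
  have hgcd : Nat.gcd 2 (Fintype.card F - 1) = 1 :=
    ((Nat.prime_two.coprime_iff_not_dvd).2 (by rw [hF]; omega) : Nat.Coprime 2 _)
  have hpsl : Nat.card PSL2[F] = 2 ^ m * ((2 ^ m - 1) * (2 ^ m + 1)) := by
    have := DicksonId.card_PSL_mul (F := F) (p := 2)
    rw [hgcd, one_mul, hF] at this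
    exact this
  -- the Sylow subgroup of the simple group
  let T' : Sylow 2 PSL2[F] := (T.subtype hTM).mapSurjective (f := e.toMonoidHom) e.surjective
  have hT' : Nat.card (T' : Subgroup PSL2[F]) = 2 ^ n := by
    show Nat.card ((((T.subtype hTM : Sylow 2 M) : Subgroup M)).map e.toMonoidHom) = 2 ^ n
    rw [Subgroup.card_map_of_injective (f := e.toMonoidHom) e.injective, Sylow.coe_subtype, ← hcard]
    exact Nat.card_congr (subgroupOfEquivOfLe hTM).toEquiv
  obtain rfl : n = m := by
    have h1 := T'.card_eq_multiplicity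
    rw [hT', hpsl, Nat.factorization_mul (by omega) (Nat.mul_ne_zero (by omega) (by omega)),
      Nat.factorization_mul (by omega) (by omega), Finsupp.add_apply, Finsupp.add_apply,
      Nat.factorization_eq_zero_of_not_dvd (show ¬ 2 ∣ 2 ^ m - 1 by omega),
      Nat.factorization_eq_zero_of_not_dvd (show ¬ 2 ∣ 2 ^ m + 1 by omega),
      Nat.factorization_pow_self Nat.prime_two, add_zero] at h1
    exact Nat.pow_right_injective le_rfl h1
  refine Or.inr ⟨hm, ?_⟩
  -- the normaliser of the Sylow subgroup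
  set N := normalizer ((T : Subgroup X) : Set X) with hN
  haveI hTN : ((T.subtype (show (T : Subgroup X) ≤ N from le_normalizer) : Sylow 2 N) :
      Subgroup N).Normal := by
    rw [Sylow.coe_subtype]
    exact normal_in_normalizer
  haveI hsolv : Group.IsSolvable N := by
    refine EqualConj4.isSolvable_of_normal (T := T.subtype (show (T : Subgroup X) ≤ N from le_normalizer)) ?_
    rw [Sylow.coe_subtype]
    refine ⟨⟨fun a b => Subtype.ext (Subtype.ext ?_)⟩⟩
    have := congrArg Subtype.val (hel.1.is_comm.comm (⟨_, a.2⟩ : (T : Subgroup X)) ⟨_, b.2⟩)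
    simpa using this
  have h4025 := Cfsg.Agent.S4025.result (h 2 Nat.prime_two) T n hm hel hcard N hN inferInstance
  -- `X` embeds in `Aut M`
  set φ : X →* MulAut M := MulAut.conjNormal
  have hφ : Function.Injective φ := by
    rw [← MonoidHom.ker_eq_bot_iff, eq_bot_iff, ← hC]
    intro x hx
    rw [MonoidHom.mem_ker] at hx
    rw [mem_centralizer_iff]
    intro a ha
    have h1 : ((φ x ⟨a, ha⟩ : M) : X) = a := by rw [hx]; rfl
    rw [MulAut.conjNormal_apply] at h1
    calc a * x = x * a * x⁻¹ * x := by rw [h1]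
      _ = x * a := by rw [inv_mul_cancel_right]
  have hAut : Nat.card (MulAut M) = n * Nat.card M := by
    rw [Nat.card_congr (MulAut.congr e).toEquiv, EqualConj4.card_mulAut F hF, hgcd, one_mul,
      Nat.card_congr e.toEquiv]
  have hdvd : M.index ∣ n := by
    have h1 := Subgroup.card_dvd_of_injective φ hφ
    rw [hAut, ← M.card_mul_index, mul_comm n] at h1
    exact Nat.dvd_of_mul_dvd_mul_left Nat.card_pos h1
  rcases h4025 with ⟨rfl, -, -⟩ | ⟨rfl, -, ⟨g⟩⟩
  · -- `L₂(8)`: no extension
    have hM1 : M.index = 1 := by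
      by_contra hne
      have h3 : M.index = 3 := ((Nat.dvd_prime Nat.prime_three).1 hdvd).resolve_left hne
      haveI : Fact (Nat.Prime 3) := ⟨Nat.prime_three⟩
      have hsup : N ⊔ M = ⊤ := by
        have h1 := Sylow.normalizer_sup_eq_top (N := M) (T.subtype hTM)
        rwa [Sylow.coe_subtype, map_subgroupOf_eq_of_le hTM] at h1
      have h3N : 3 ∣ Nat.card N := by
        rw [← h3, index_eq_card]
        refine Subgroup.card_dvd_of_surjective ((QuotientGroup.mk' M).comp N.subtype) fun q => ?_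
        obtain ⟨a, rfl⟩ := QuotientGroup.mk'_surjective M q
        have ha : a ∈ N ⊔ M := hsup.symm ▸ mem_top a
        rw [← SetLike.mem_coe, Subgroup.mul_normal, Set.mem_mul] at ha
        obtain ⟨b, hb, c, hc, rfl⟩ := ha
        exact ⟨⟨b, hb⟩, by simp [(QuotientGroup.eq_one_iff c).2 hc]⟩
      obtain ⟨y, hy⟩ := exists_prime_orderOf_dvd_card' 3 h3N
      have h3M : 3 ∣ Nat.card M := by
        rw [Nat.card_congr e.toEquiv, hpsl]; norm_num
      obtain ⟨x, hx⟩ := exists_prime_orderOf_dvd_card' 3 h3M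
      have hyM : (y : X) ∈ M :=
        h.mem_normal Nat.prime_three (N := M) x.2 ((Subgroup.orderOf_coe x).trans hx)
          ((Subgroup.orderOf_coe y).trans hy)
      have hye : orderOf (e ⟨y, hyM⟩) = 3 := by
        rw [MulEquiv.orderOf_eq, ← Subgroup.orderOf_coe]
        exact (Subgroup.orderOf_coe y).trans hy
      have hyn : e ⟨y, hyM⟩ ∈ normalizer ((T' : Subgroup PSL2[F]) : Set PSL2[F]) := by
        have hT2 : (T' : Subgroup PSL2[F]) = ((T : Subgroup X).subgroupOf M).map e.toMonoidHom := by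
          show (((T.subtype hTM : Sylow 2 M) : Subgroup M)).map e.toMonoidHom = _
          rw [Sylow.coe_subtype]
        rw [mem_normalizer_iff]
        intro z
        obtain ⟨z, rfl⟩ := e.surjective z
        have hz : ∀ w : M, e w ∈ (T' : Subgroup PSL2[F]) ↔ (w : X) ∈ (T : Subgroup X) := fun w => by
          rw [hT2, mem_map_equiv, MulEquiv.symm_apply_apply, mem_subgroupOf]
        rw [← map_inv, ← map_mul, ← map_mul, hz, hz]
        exact mem_normalizer_iff.1 y.2 z
      have h1 := DicksonId.card_normalizer_sylow (p := 2) T'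
      rw [hgcd, one_mul, hF] at h1
      have h2 := Subgroup.orderOf_dvd_natCard _ hyn
      rw [hye, h1] at h2
      norm_num at h2
    rw [index_eq_one] at hM1
    letI : Fintype (GaloisField 2 3) := Fintype.ofFinite _
    obtain ⟨g⟩ := SmallGroups.ProjLine.psl_congr_card (F := F) (F' := GaloisField 2 3) (by
      rw [hF, ← Nat.card_eq_fintype_card, GaloisField.card 2 3 (by norm_num)])
    exact Or.inr (Or.inr (Or.inr (Or.inr (Or.inr (Or.inl
      ⟨(Subgroup.topEquiv.symm.trans (MulEquiv.subgroupCongr hM1.symm)).trans (e.trans g)⟩)))))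
  · -- `Aut L₂(32)`
    have h5 : 5 ∣ Nat.card X := by
      refine dvd_trans ?_ ((Subgroup.card_quotient_dvd_card (Cfsg.pPrimeCore 2 N)).trans (card_subgroup_dvd_card N))
      rw [Nat.card_congr g.toEquiv]
      exact EqualConj4.five_dvd_card_semiaffine
    have hidx : M.index = 5 := by
      refine ((Nat.dvd_prime (by norm_num)).1 hdvd).resolve_left fun h1 => ?_
      rw [← M.card_mul_index, h1, mul_one, Nat.card_congr e.toEquiv, hpsl] at h5
      norm_num at h5
    have hbij : Function.Bijective φ := hφ.bijective_of_nat_card_le (le_of_eq (by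
      rw [hAut, ← M.card_mul_index, hidx, mul_comm]))
    letI : Fintype (GaloisField 2 5) := Fintype.ofFinite _
    obtain ⟨g'⟩ := SmallGroups.ProjLine.psl_congr_card (F := F) (F' := GaloisField 2 5) (by
      rw [hF, ← Nat.card_eq_fintype_card, GaloisField.card 2 5 (by norm_num)])
    exact Or.inr (Or.inr (Or.inr (Or.inr (Or.inr (Or.inr (Or.inl
      ⟨(MulEquiv.ofBijective φ hbij).trans (MulAut.congr (e.trans g'))⟩))))))

end Cfsg.Agent.Lib.EqualPrime77
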