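import Cfsg.Agent.Lib.EqualPrime77.Normal
import Cfsg.Agent.Lib.EqualConj4.Known
import Cfsg.Agent.Lib.SameOrderConj77.ReePSL
import Cfsg.Agent.Lib.HallNumber68.Basic
import Cfsg.Agent.S4020
import Cfsg.Agent.S4025

/-!
# `PSL(2, q)`, `q ≡ 3, 5 (mod 8)`, as simple normal subgroup

Owner: helper77.
-/

set_option autoImplicit false
set_option linter.style.haveILetI false

universe u

namespace Cfsg.Agent.Lib.EqualPrime77

open Subgroup

variable {X : Type u} [Group X] [Finite X]

local notation "PSL2[" F "]" => Matrix.ProjectiveSpecialLinearGroup (Fin 2) F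

theorem conjNormal_injective {M : Subgroup X} [M.Normal] (hC : centralizer (M : Set X) = ⊥) :
    Function.Injective (MulAut.conjNormal : X →* MulAut M) := by
  rw [← MonoidHom.ker_eq_bot_iff, eq_bot_iff, ← hC]
  intro x hx
  rw [MonoidHom.mem_ker] at hx
  rw [mem_centralizer_iff]
  intro a ha
  have h1 : (((MulAut.conjNormal x : MulAut M) ⟨a, ha⟩ : M) : X) = a := by rw [hx]; rfl
  rw [MulAut.conjNormal_apply] at h1
  calc a * x = x * a * x⁻¹ * x := by rw [h1]
    _ = x * a := by rw [inv_mul_cancel_right]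

theorem pow_mod_eight {p f : ℕ} (h : p ^ f % 8 = 3 ∨ p ^ f % 8 = 5) : Odd f ∧ p ^ f % 8 = p % 8 := by
  have hp : Odd p := by
    rcases Nat.even_or_odd p with he | ho
    · exfalso
      rcases Nat.eq_zero_or_pos f with rfl | hf
      · norm_num at h
      · have := (Nat.even_pow.2 ⟨he, hf.ne'⟩).two_dvd
        omega
    · exact ho
  have h2 : p ^ 2 % 8 = 1 := by
    have hm : p % 8 % 2 = 1 := by rw [Nat.mod_mod_of_dvd p (by norm_num : 2 ∣ 8)]; exact Nat.odd_iff.1 hp
    have := Nat.mod_lt p (by norm_num : 8 > 0)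
    rw [Nat.pow_mod]
    interval_cases hq : p % 8 <;> omega
  rcases Nat.even_or_odd' f with ⟨k, rfl | rfl⟩
  · exfalso
    rw [pow_mul, Nat.pow_mod, h2, one_pow] at h
    omega
  · refine ⟨odd_two_mul_add_one k, ?_⟩
    rw [pow_succ, pow_mul, Nat.mul_mod, Nat.pow_mod, h2, one_pow]
    simp

variable {F : Type} [Field F] [Fintype F]

/-- The Sylow subgroup in the defining characteristic is elementary, of order `q`, and contained in
the simple normal subgroup. -/
theorem exists_elementary_sylow (h : PEC X) {M : Subgroup X} [M.Normal] (e : M ≃* PSL2[F]) {p f : ℕ}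
    [Fact p.Prime] [CharP F p] (hp2 : p ≠ 2) (hF : Fintype.card F = p ^ f) (hf : 2 ≤ f) :
    ∃ P : Sylow p X, Cfsg.IsElementaryAbelian p (P : Subgroup X) ∧ (P : Subgroup X) ≤ M ∧
      Nat.card (P : Subgroup X) = p ^ f := by
  have hp : p.Prime := Fact.out
  set ι : PSL2[F] →* X := M.subtype.comp e.symm.toMonoidHom
  have hι : Function.Injective ι := M.subtype_injective.comp e.symm.injective
  set V := (SameOrderConj77.ReePSL.U (F := F)).map ι with hVdef
  have hVc : Nat.card V = p ^ f := by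
    rw [Subgroup.card_map_of_injective hι, SameOrderConj77.ReePSL.card_U, hF]
  have hVe : ∀ v ∈ V, v ^ p = 1 := by
    rintro _ ⟨u, hu, rfl⟩
    rw [← map_pow, SameOrderConj77.ReePSL.pow_char_eq_one p hu, map_one]
  obtain ⟨P, hP⟩ := (IsPGroup.of_card hVc).exists_le_sylow
  have hel : Cfsg.IsElementaryAbelian p (P : Subgroup X) := by
    rcases Cfsg.Agent.S4020.result h P with hc | hc | hQ
    · exfalso
      haveI := hc
      haveI : IsCyclic V := isCyclic_of_injective (Subgroup.inclusion hP) (Subgroup.inclusion_injective hP)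
      have h1 : Monoid.exponent V ∣ p := Monoid.exponent_dvd_of_forall_pow_eq_one
        fun v => Subtype.ext (hVe v v.2)
      rw [IsCyclic.exponent_eq_card, hVc] at h1
      have h2 : p ^ 2 ∣ p := (Nat.pow_dvd_pow p hf).trans h1
      have := Nat.le_of_dvd hp.pos h2
      have h3 : p * 1 < p * p := Nat.mul_lt_mul_of_pos_left hp.one_lt hp.pos
      rw [pow_two] at this
      omega
    · exact hc
    · exfalso
      obtain ⟨eQ⟩ := hQ
      obtain ⟨k, hk⟩ := IsPGroup.iff_card.1 P.isPGroup'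
      rw [Nat.card_congr eQ.toEquiv, Nat.card_eq_fintype_card, QuaternionGroup.card] at hk
      have h1 : p ∣ 2 ^ 3 := by
        rcases Nat.eq_zero_or_pos k with rfl | hk0
        · simp at hk
        · rw [show (2 : ℕ) ^ 3 = 4 * 2 by norm_num, hk]; exact dvd_pow_self _ hk0.ne'
      exact hp2 ((Nat.prime_dvd_prime_iff_eq hp Nat.prime_two).1 (hp.dvd_of_dvd_pow h1))
  have hPM : (P : Subgroup X) ≤ M := by
    haveI : Nontrivial V := by
      rw [← Finite.one_lt_card_iff_nontrivial, hVc]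
      exact Nat.one_lt_pow (by omega) hp.one_lt
    obtain ⟨v, hv⟩ := exists_ne (1 : V)
    have hvM : (v : X) ∈ M := by
      obtain ⟨u, -, hu⟩ := v.2
      rw [← hu]
      exact (e.symm u).2
    intro x hx
    rcases eq_or_ne x 1 with rfl | hx1
    · exact M.one_mem
    · exact h.mem_normal hp hvM (orderOf_eq_prime (hVe v v.2) fun h1 => hv (Subtype.ext h1))
        (orderOf_eq_prime (hel.2 x hx) hx1)
  refine ⟨P, hel, hPM, ?_⟩
  have h1 := (P.subtype hPM).card_eq_multiplicity
  rw [show Nat.card ((P.subtype hPM : Sylow p M) : Subgroup M) = Nat.card (P : Subgroup X) by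
    rw [Sylow.coe_subtype]; exact Nat.card_congr (subgroupOfEquivOfLe hPM).toEquiv] at h1
  rw [h1, Nat.card_congr e.toEquiv]
  congr 1
  have h2 := DicksonId.card_PSL_mul (F := F) (p := p)
  have hodd : Odd (p ^ f) := (hp.odd_of_ne_two hp2).pow
  obtain ⟨j, hj⟩ := hodd
  rw [hF, Nat.gcd_eq_left (show 2 ∣ p ^ f - 1 from ⟨j, by omega⟩)] at h2
  have hq : p ∣ p ^ f := dvd_pow_self p (by omega)
  have hn1 : ¬ p ∣ p ^ f - 1 := fun hd => by
    have := Nat.dvd_sub hq hd
    rw [Nat.sub_sub_self (Nat.one_le_pow _ _ hp.pos)] at this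
    exact hp.one_lt.ne' (Nat.dvd_one.1 this)
  have hn2 : ¬ p ∣ p ^ f + 1 := fun hd => by
    have := Nat.dvd_sub hd hq
    rw [Nat.add_sub_cancel_left] at this
    exact hp.one_lt.ne' (Nat.dvd_one.1 this)
  have hn3 : ¬ p ∣ 2 := fun hd => hp2 ((Nat.prime_dvd_prime_iff_eq hp Nat.prime_two).1 hd)
  have hlt : p ^ f - 1 ≠ 0 := by
    have := Nat.one_lt_pow (by omega : f ≠ 0) hp.one_lt
    omega
  have h3 := congrArg (fun a => a.factorization p) h2
  simp only [Nat.factorization_mul two_ne_zero Nat.card_pos.ne', Nat.factorization_mul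
    (pow_ne_zero _ hp.ne_zero) (Nat.mul_ne_zero hlt (Nat.succ_ne_zero _)),
    Nat.factorization_mul hlt (Nat.succ_ne_zero _), Finsupp.add_apply,
    Nat.factorization_eq_zero_of_not_dvd hn1, Nat.factorization_eq_zero_of_not_dvd hn2,
    Nat.factorization_eq_zero_of_not_dvd hn3, Nat.factorization_pow_self hp] at h3
  omega

/-- The normaliser of that Sylow subgroup is soluble. -/
theorem isSolvable_normalizer {M : Subgroup X} [M.Normal] (hodd : Odd M.index) (e : M ≃* PSL2[F])
    {p f : ℕ} [Fact p.Prime] [CharP F p] (hF : Fintype.card F = p ^ f)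
    (h8 : Fintype.card F % 8 = 3 ∨ Fintype.card F % 8 = 5) (P : Sylow p X)
    (hPM : (P : Subgroup X) ≤ M) :
    Group.IsSolvable (normalizer ((P : Subgroup X) : Set X)) := by
  set N := normalizer ((P : Subgroup X) : Set X)
  refine HallNumber68.isSolvable_of_not_four_dvd ?_
  let P' : Sylow p PSL2[F] := (P.subtype hPM).mapSurjective (f := e.toMonoidHom) e.surjective
  have hP2 : ∀ w : M, e w ∈ (P' : Subgroup PSL2[F]) ↔ (w : X) ∈ (P : Subgroup X) := fun w => by
    rw [show (P' : Subgroup PSL2[F]) = ((P : Subgroup X).subgroupOf M).map e.toMonoidHom by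
      show (((P.subtype hPM : Sylow p M) : Subgroup M)).map e.toMonoidHom = _
      rw [Sylow.coe_subtype], mem_map_equiv, MulEquiv.symm_apply_apply, mem_subgroupOf]
  have hNM : (N.subgroupOf M).map e.toMonoidHom = normalizer ((P' : Subgroup PSL2[F]) : Set PSL2[F]) := by
    ext y
    obtain ⟨y, rfl⟩ := e.surjective y
    rw [mem_map_equiv, MulEquiv.symm_apply_apply, mem_subgroupOf, mem_normalizer_iff, mem_normalizer_iff]
    constructor
    · intro hy z
      obtain ⟨z, rfl⟩ := e.surjective z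
      rw [← map_inv, ← map_mul, ← map_mul, hP2, hP2]
      exact hy z
    · intro hy z
      by_cases hz : z ∈ M
      · have := hy (e ⟨z, hz⟩)
        rwa [← map_inv, ← map_mul, ← map_mul, hP2, hP2] at this
      · refine ⟨fun hzP => absurd (hPM hzP) hz, fun hzP => absurd ?_ hz⟩
        have h1 := M.mul_mem (M.mul_mem (M.inv_mem y.2) (hPM hzP)) y.2
        simpa [mul_assoc] using h1
  have hc := DicksonId.card_normalizer_sylow (p := p) P'
  rw [← hNM, Subgroup.card_map_of_injective (f := e.toMonoidHom) e.injective,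
    Nat.gcd_eq_left (show 2 ∣ Fintype.card F - 1 by omega)] at hc
  intro h4
  rw [← (M.subgroupOf N).card_mul_index] at h4
  have ho : Odd (M.subgroupOf N).index :=
    hodd.of_dvd_nat (relIndex_dvd_index_of_normal M N)
  have h5 : 4 ∣ Nat.card (M.subgroupOf N) :=
    (Nat.Coprime.pow_left 2 ho.coprime_two_left : Nat.Coprime (2 ^ 2) _).dvd_of_dvd_mul_right h4
  have h6 : Nat.card (M.subgroupOf N) = Nat.card (N.subgroupOf M) := by
    rw [← inf_subgroupOf_right M N, ← inf_subgroupOf_right N M,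
      Nat.card_congr (subgroupOfEquivOfLe inf_le_right).toEquiv,
      Nat.card_congr (subgroupOfEquivOfLe inf_le_right).toEquiv, inf_comm]
  obtain ⟨d, hd⟩ := h6 ▸ h5
  rw [hd] at hc
  have h7 : Fintype.card F * (Fintype.card F - 1) % 8 ≠ 0 := by
    rcases h8 with h8 | h8
    · rw [Nat.mul_mod, h8, show (Fintype.card F - 1) % 8 = 2 by omega]; norm_num
    · rw [Nat.mul_mod, h8, show (Fintype.card F - 1) % 8 = 4 by omega]; norm_num
  rw [← hc, show 2 * (4 * d) = 8 * d by ring, Nat.mul_mod_right] at h7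
  exact h7 rfl

/-- `PSL(2, q)`, `q ≡ 3, 5 (mod 8)`. -/
theorem outcome_of_odd (h : PEC X) (T : Sylow 2 X) {n : ℕ} (hn : 2 ≤ n) (hcard : Nat.card T = 2 ^ n)
    (M : Subgroup X) [hMn : M.Normal] (hTM : (T : Subgroup X) ≤ M)
    (hC : centralizer (M : Set X) = ⊥) (F : Type) [Field F] [Fintype F]
    (h8 : Fintype.card F % 8 = 3 ∨ Fintype.card F % 8 = 5)
    (e : M ≃* PSL2[F]) : Outcome n X := by
  obtain ⟨p, hpc⟩ := CharP.exists F
  obtain ⟨f, hp, hF⟩ := FiniteField.card F p
  haveI := hpc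
  haveI : Fact p.Prime := ⟨hp⟩
  have hgcd : Nat.gcd 2 (Fintype.card F - 1) = 2 := Nat.gcd_eq_left (by omega)
  have hodd : Odd M.index := EqualConj4.index_odd_of_sylow_le hTM
  obtain ⟨hfodd, hp8⟩ := pow_mod_eight (hF ▸ h8)
  rw [← hF] at hp8
  have hp8' : p % 8 = 3 ∨ p % 8 = 5 := hp8 ▸ h8
  have hpsl := DicksonId.card_PSL_mul (F := F) (p := p)
  rw [hgcd] at hpsl
  have hn2 : n = 2 := by
    have h3 : 2 ^ n ∣ Nat.card PSL2[F] := by
      rw [← hcard, ← Nat.card_congr e.toEquiv]; exact card_dvd_of_le hTM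
    by_contra hne
    have h4 : 2 ^ 3 ∣ Nat.card PSL2[F] := (pow_dvd_pow 2 (by omega : 3 ≤ n)).trans h3
    have h5 : 16 ∣ Fintype.card F * ((Fintype.card F - 1) * (Fintype.card F + 1)) := by
      rw [← hpsl]; exact Nat.mul_dvd_mul_left 2 h4
    have h6 : (Fintype.card F - 1) * (Fintype.card F + 1) % 16 = 8 := by
      rw [Nat.mul_mod]
      have : Fintype.card F % 16 = 3 ∨ Fintype.card F % 16 = 5 ∨ Fintype.card F % 16 = 11 ∨
          Fintype.card F % 16 = 13 := by omega
      rcases this with h | h | h | h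
      · rw [show (Fintype.card F - 1) % 16 = 2 by omega, show (Fintype.card F + 1) % 16 = 4 by omega]
      · rw [show (Fintype.card F - 1) % 16 = 4 by omega, show (Fintype.card F + 1) % 16 = 6 by omega]
      · rw [show (Fintype.card F - 1) % 16 = 10 by omega, show (Fintype.card F + 1) % 16 = 12 by omega]
      · rw [show (Fintype.card F - 1) % 16 = 12 by omega, show (Fintype.card F + 1) % 16 = 14 by omega]
    have hco : Nat.Coprime 16 (Fintype.card F) :=
      (Nat.Coprime.pow_left 4 (Nat.odd_iff.2 (by omega) : Odd (Fintype.card F)).coprime_two_left)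
    have h7 := hco.dvd_of_dvd_mul_left h5
    omega
  refine Or.inl ⟨hn2, p, ⟨hp⟩, hp8', ?_⟩
  set φ : X →* MulAut PSL2[F] := (MulAut.congr e).toMonoidHom.comp MulAut.conjNormal
  have hφ : Function.Injective φ := (MulAut.congr e).injective.comp (conjNormal_injective hC)
  have hAut : Nat.card (MulAut PSL2[F]) = (f : ℕ) * (2 * Nat.card M) := by
    rw [EqualConj4.card_mulAut F hF, hgcd, Nat.card_congr e.toEquiv]
  have hdvd : M.index ∣ (f : ℕ) := by
    have h1 := Subgroup.card_dvd_of_injective φ hφ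
    rw [hAut, ← M.card_mul_index, ← mul_assoc, mul_comm _ (Nat.card M)] at h1
    exact hodd.coprime_two_right.dvd_of_dvd_mul_right
      (Nat.dvd_of_mul_dvd_mul_left Nat.card_pos h1)
  have fin : M.index = 1 → ∀ (F' : Type) [Field F'] [Fintype F'],
      Fintype.card F = Fintype.card F' → Nonempty (X ≃* PSL2[F']) := by
    intro h1 F' _ _ hF'
    obtain ⟨g⟩ := SmallGroups.ProjLine.psl_congr_card (F := F) (F' := F') hF'
    rw [index_eq_one] at h1
    exact ⟨(Subgroup.topEquiv.symm.trans (MulEquiv.subgroupCongr h1.symm)).trans (e.trans g)⟩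
  by_cases hf1 : (f : ℕ) = 1
  · rw [hf1] at hdvd hF
    exact Or.inl (fin (Nat.dvd_one.1 hdvd) (ZMod p) (by rw [hF, pow_one, ZMod.card]))
  have hf3 : 3 ≤ (f : ℕ) := by obtain ⟨j, hj⟩ := hfodd; omega
  have hp2 : p ≠ 2 := by rintro rfl; omega
  obtain ⟨P, hel, hPM, hPc⟩ := exists_elementary_sylow h e hp2 hF (by omega)
  haveI := isSolvable_normalizer hodd e hF h8 P hPM
  have hf' : (f : ℕ) = 3 := by
    rcases Cfsg.Agent.S4025.result (h p hp) P f hf3 hel hPc _ rfl inferInstance with ⟨h3, -, -⟩ | ⟨-, h2, -⟩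
    · exact h3
    · exact absurd h2 hp2
  rw [hf'] at hdvd hF hAut
  letI : Fintype (GaloisField p 3) := Fintype.ofFinite _
  refine Or.inr (fin ?_ (GaloisField p 3)
    (by rw [hF, ← Nat.card_eq_fintype_card, GaloisField.card p 3 (by norm_num)]))
  refine ((Nat.dvd_prime Nat.prime_three).1 hdvd).resolve_right fun hi => ?_
  -- a field automorphism of order three would be inner
  haveI : Fact (Nat.Prime 3) := ⟨Nat.prime_three⟩
  haveI : Finite (F ≃+* F) := Finite.of_injective (fun τ : F ≃+* F => (τ : F → F)) DFunLike.coe_injective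
  obtain ⟨σ, hσ⟩ := exists_prime_orderOf_dvd_card' (G := F ≃+* F) 3
    (by rw [AutPSL.card_fieldAuts hF])
  have hσ1 : σ ≠ 1 := fun h1 => by rw [h1, orderOf_one] at hσ; omega
  have hidx : φ.range.index = 2 := by
    have h1 := φ.range.card_mul_index
    rw [← Nat.card_congr (MonoidHom.ofInjective hφ).toEquiv, hAut, ← M.card_mul_index, hi] at h1
    have h2 : Nat.card M * 3 * φ.range.index = Nat.card M * 3 * 2 := by rw [h1]; ring
    exact Nat.eq_of_mul_eq_mul_left (Nat.mul_pos Nat.card_pos three_pos) h2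
  obtain ⟨y, hy⟩ : AutPSL.fieldAut (n := 2) σ ∈ φ.range := by
    have h1 := mul_self_mem_of_index_two hidx (AutPSL.fieldAut (n := 2) (σ ^ 2))
    rwa [← map_mul, ← pow_add, pow_succ σ 3, show σ ^ 3 = 1 by rw [← hσ, pow_orderOf_eq_one],
      one_mul] at h1
  have hy3 : orderOf y = 3 := by
    refine orderOf_eq_prime (hφ (by
      rw [map_pow, hy, ← map_pow, show σ ^ 3 = 1 by rw [← hσ, pow_orderOf_eq_one], map_one,
        map_one])) fun h1 => ?_
    rw [h1, map_one] at hy
    exact hσ1 (AutPSL.eq_one_of_conj_field le_rfl (g := 1) (by rw [map_one, one_mul, hy])).2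
  have h3M : 3 ∣ Nat.card M := by
    rw [Nat.card_congr e.toEquiv]
    refine (show Nat.Coprime 3 2 by norm_num).dvd_of_dvd_mul_left ?_
    rw [hpsl]
    have h3 : Fintype.card F % 3 = 0 ∨ (Fintype.card F - 1) % 3 = 0 ∨ (Fintype.card F + 1) % 3 = 0 := by
      have := Fintype.one_lt_card (α := F)
      omega
    rcases h3 with h | h | h
    · exact (Nat.dvd_of_mod_eq_zero h).mul_right _
    · exact ((Nat.dvd_of_mod_eq_zero h).mul_right _).mul_left _
    · exact ((Nat.dvd_of_mod_eq_zero h).mul_left _).mul_left _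
  obtain ⟨a, ha⟩ := exists_prime_orderOf_dvd_card' 3 h3M
  have hyM : y ∈ M := h.mem_normal Nat.prime_three a.2 ((Subgroup.orderOf_coe a).trans ha) hy3
  obtain ⟨s, hs⟩ := QuotientGroup.mk_surjective (e ⟨y, hyM⟩)
  have hinner : φ y = MulAut.conj (e ⟨y, hyM⟩) := by
    refine MulEquiv.ext fun z => ?_
    obtain ⟨z, rfl⟩ := e.surjective z
    show e (MulAut.conjNormal y (e.symm (e z))) = _
    rw [MulEquiv.symm_apply_apply, MulAut.conj_apply, ← map_inv, ← map_mul, ← map_mul]
    exact congrArg e (Subtype.ext (by rw [MulAut.conjNormal_apply]; rfl))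
  rw [hy, ← hs, ← AutPSL.conjAut_toGL] at hinner
  refine hσ1 (AutPSL.eq_one_of_conj_field le_rfl (g := (Matrix.SpecialLinearGroup.toGL s)⁻¹)
    (σ := σ) ?_).2
  rw [map_inv, hinner, inv_mul_cancel]

end Cfsg.Agent.Lib.EqualPrime77
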