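import Cfsg.Agent.S1644
import Cfsg.Agent.S2065
import Cfsg.Agent.Lib.Linear.SmallIso.PSL5
import Cfsg.Agent.Lib.Walter.Assemble
import Cfsg.Agent.Lib.SameOrderConj77.Ree
import Cfsg.Agent.Lib.EqualPrime77.Simple
import Cfsg.Agent.Lib.EqualPrime77.Even
import Cfsg.Agent.Lib.EqualPrime77.Odd
import Cfsg.Agent.Lib.EqualPrime77.Field.Main

/-!
# Trivial odd core and an elementary abelian Sylow 2-subgroup

Owner: helper77.
-/

set_option autoImplicit false
set_option linter.style.haveILetI false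

universe u

namespace Cfsg.Agent.Lib.EqualPrime77

open Subgroup

variable {X : Type u} [Group X] [Finite X]

/-- The Janko group has no proper odd extension. -/
theorem isJ1_of_normal {M : Subgroup X} [M.Normal] (hC : centralizer (M : Set X) = ⊥)
    (hJ : Cfsg.Spor.IsoJ1 M) : Cfsg.IsJ1 X := by
  obtain ⟨g⟩ := hJ
  haveI : IsSimpleGroup ↥Cfsg.Spor.J1 := SporMatrix.J1.isSimpleGroup_J1
  have hcard : Nat.card ↥Cfsg.Spor.J1 = 175560 := SporMatrix.J1.card_J1
  haveI : Finite ↥Cfsg.Spor.J1 := Nat.finite_of_card_ne_zero (by omega)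
  haveI : Subsingleton (Cfsg.Out ↥Cfsg.Spor.J1) := (Nat.card_eq_one_iff_unique.1 Cfsg.Agent.S2065.result).1
  have hsurj : Function.Surjective (MulAut.conj : ↥Cfsg.Spor.J1 →* MulAut ↥Cfsg.Spor.J1) := by
    intro a
    have : a ∈ Cfsg.Inn ↥Cfsg.Spor.J1 := (QuotientGroup.eq_one_iff a).1 (Subsingleton.elim _ _)
    exact this
  have hA : Nat.card (MulAut M) ≤ Nat.card M := by
    rw [Nat.card_congr (MulAut.congr g).toEquiv, Nat.card_congr g.toEquiv]
    exact Nat.card_le_card_of_surjective _ hsurj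
  have h1 : M = ⊤ := Subgroup.eq_top_of_card_eq M (le_antisymm (Subgroup.card_le_card_group M)
    ((Nat.card_le_card_of_injective _ (conjNormal_injective hC)).trans hA))
  have e : X ≃* ↥Cfsg.Spor.J1 :=
    (Subgroup.topEquiv.symm.trans (MulEquiv.subgroupCongr h1.symm)).trans g
  exact ⟨e.isSimpleGroup, (Nat.card_congr e.toEquiv).trans hcard⟩

/-- Janko–Ree type: only `J₁`. -/
theorem outcome_of_JR (hK : Walter.PropKnown.{u}) (hO : Walter.PropOrder.{u}) (h : PEC X)
    (hel : ∀ P : Sylow 2 X, Cfsg.IsElementaryAbelian 2 (P : Subgroup X)) (T : Sylow 2 X) {n : ℕ}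
    (hcard : Nat.card T = 2 ^ n) {M : Subgroup X} [hMn : M.Normal] [IsSimpleGroup M]
    (hab : Walter.AbelianSylow M) (hle : ∀ P : Sylow 2 X, (P : Subgroup X) ≤ M)
    (hC : centralizer (M : Set X) = ⊥) (hJ : Walter.IsJR M) {t : M} (ht : orderOf t = 2) :
    Outcome n X := by
  haveI : Fact (Nat.Prime 2) := ⟨Nat.prime_two⟩
  have h8 : Nat.card T = 2 ^ 3 := by
    rw [← Nat.card_congr (subgroupOfEquivOfLe (hle T)).toEquiv]
    exact (hJ.card_sylow (T.subtype (hle T))).trans (by norm_num)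
  obtain rfl : n = 3 := Nat.pow_right_injective le_rfl (hcard.symm.trans h8)
  refine Or.inr ⟨le_rfl, Or.inr (Or.inr (Or.inr (Or.inr (Or.inl (isJ1_of_normal hC ?_)))))⟩
  obtain ⟨E, E₀, hE⟩ := hJ.centralizer t ht
  have hEE := Field.eq_of_fused hK hO hJ
    (Field.fused_of_conj fun l hl a b ha hb => h.conj_prime hl ha hb) ht hE
  obtain ⟨F, hF, hF', hq, h5, ⟨e⟩⟩ := hE.2.2.2.2.1
  subst hEE
  obtain ⟨d⟩ := Walter.prod_equiv ht hE.1
  let φ := d.trans ((MulEquiv.refl _).prodCongr e)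
  rcases hO M (fun P a b => by haveI := hab P; exact mul_comm' a b) F (by omega) t ht ⟨φ⟩ with
    ⟨m, hm, hc, hcM⟩ | ⟨hq', -⟩
  · exact (SameOrderConj77.ree_false' hel hle (EqualConj4.index_odd_of_sylow_le (hle T))
      (fun a b ha hb => h.conj_prime Nat.prime_three ha hb) ht φ hm hc hcM).elim
  · have hc5 : Fintype.card F = 5 := by omega
    obtain ⟨e5⟩ := Linear.SmallIso.nonempty_psl_two_five hc5
    exact Cfsg.Agent.S1644.result (default : Sylow 2 M) (hab _) (hJ.card_sylow _) t ht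
      (φ.trans ((MulEquiv.refl _).prodCongr e5))

/-- Trivial odd core and an elementary Sylow 2-subgroup of order at least four. -/
theorem outcome_of_elementary (hK : Walter.PropKnown.{u})
    (hO₁ : Walter.PropOrder.{u}) (h : PEC X) (hO : Cfsg.oddCore X = ⊥) (T : Sylow 2 X)
    (hel : Cfsg.IsElementaryAbelian 2 (T : Subgroup X)) {n : ℕ} (hn : 2 ≤ n)
    (hcard : Nat.card T = 2 ^ n) : Outcome n X := by
  by_cases hTn : (T : Subgroup X).Normal
  · exact outcome_of_normal h hO T hel hn hcard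
  obtain ⟨M, hMn, hs, hnc, hTM, hC⟩ := exists_simple h hO T hel hTn
  haveI := hMn
  haveI := hs
  haveI : Fact (Nat.Prime 2) := ⟨Nat.prime_two⟩
  have helP : ∀ P : Sylow 2 X, Cfsg.IsElementaryAbelian 2 (P : Subgroup X) := fun P => by
    refine ⟨⟨⟨fun a b => (Sylow.equiv P T).injective ?_⟩⟩, fun a ha => ?_⟩
    · rw [map_mul, map_mul]
      exact hel.1.is_comm.comm _ _
    · have h1 : Sylow.equiv P T (⟨a, ha⟩ ^ 2) = 1 := by
        rw [map_pow]
        exact Subtype.ext (by simpa using hel.2 _ (Sylow.equiv P T ⟨a, ha⟩).2)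
      rw [MulEquiv.map_eq_one_iff] at h1
      exact congrArg Subtype.val h1
  have hMb : M ≠ ⊥ := (Subgroup.nontrivial_iff_ne_bot M).1 hs.toNontrivial
  have hle : ∀ P : Sylow 2 X, (P : Subgroup X) ≤ M := fun P => sylow_le_normal h hO (helP P) hMb
  have habel : Walter.AbelianSylow M := fun S => by
    obtain ⟨Q, hQ⟩ := (S.isPGroup'.map M.subtype).exists_le_sylow
    haveI := (helP Q).1
    exact ⟨⟨fun a b => Subtype.ext (Subtype.ext (setLike_mul_comm (s := (Q : Subgroup X))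
      (hQ (mem_map_of_mem _ a.2)) (hQ (mem_map_of_mem _ b.2))))⟩⟩
  rcases hK M hs hnc habel with ⟨m, F, iF, iF', hm, hF, ⟨e⟩⟩ | ⟨F, iF, iF', h8, -, ⟨e⟩⟩ | hJ
  · exact outcome_of_even h hO T hel hcard M hTM hC F hm hF e
  · exact outcome_of_odd h T hn hcard M hTM hC F h8 e
  · obtain ⟨a, ha⟩ := exists_prime_orderOf_dvd_card' (G := M) 2
      (dvd_trans (hcard ▸ dvd_pow_self 2 (by omega)) (card_dvd_of_le hTM))
    exact outcome_of_JR hK hO₁ h helP T hcard habel hle hC hJ ha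

end Cfsg.Agent.Lib.EqualPrime77
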