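import Cfsg.Agent.Lib.EqualPrime77.Known
import Cfsg.Agent.Lib.EqualConj4.Main
import Cfsg.Agent.Lib.BC77.QuatCyclic.Main

/-!
# The statement of row S4019 from Walter's theorem and the order theorem

Owner: helper77.
-/

set_option autoImplicit false
set_option linter.style.haveILetI false

universe u

namespace Cfsg.Agent.Lib.EqualPrime77

open Subgroup

variable {X : Type u} [Group X] [Finite X]

/-- A quaternion Sylow 2-subgroup. -/
theorem quaternion_case (hK : Walter.PropKnown.{u})
    (hO₁ : Walter.PropOrder.{u}) (h : PEC X) (hO : Cfsg.oddCore X = ⊥)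
    (T : Sylow 2 X) (eT : (T : Subgroup X) ≃* QuaternionGroup 2) : Good X := by
  haveI : Fact (Nat.Prime 2) := ⟨Nat.prime_two⟩
  have hZ2 : Nat.card (center X) = 2 := by
    refine Cfsg.Agent.S0201.result T 0 eT (fun N hN hodd => le_bot_iff.1 ?_)
    haveI := hN
    exact (Cores.le_pPrimeCore_of_not_dvd hodd.not_two_dvd_nat).trans (le_of_eq hO)
  set Z := center X with hZ
  have hZT : Z ≤ (T : Subgroup X) :=
    (Cores.le_pCore (IsPGroup.of_card (n := 1) (by rw [hZ2, pow_one]))).trans (Cores.pCore_le_sylow T)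
  obtain ⟨z, hz⟩ := exists_prime_orderOf_dvd_card' (G := Z) 2 (by rw [hZ2])
  have hzX : orderOf (z : X) = 2 := by rw [Subgroup.orderOf_coe, hz]
  have hzz : zpowers (z : X) = Z := Subgroup.eq_of_le_of_card_ge (zpowers_le.2 z.2)
    (by rw [Nat.card_zpowers, hzX, hZ2])
  -- squares of `T` are central
  have hsq : ∀ t ∈ (T : Subgroup X), t ^ 2 ∈ Z := by
    intro t ht
    have h4 : (eT ⟨t, ht⟩ ^ 2) ^ 2 = 1 := EqualConj4.quaternion_pow_four _
    rcases EqualConj4.quaternion_involution _ h4 with h1 | h1
    · rw [← map_pow, MulEquiv.map_eq_one_iff] at h1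
      have := congrArg Subtype.val h1
      rw [Subgroup.coe_pow] at this
      simp only [Subgroup.coe_one] at this
      rw [this]
      exact one_mem _
    · have hzT : (z : X) ∈ (T : Subgroup X) := hZT z.2
      have hz2 : eT ⟨z, hzT⟩ ^ 2 = 1 := by
        rw [← map_pow, MulEquiv.map_eq_one_iff]
        exact Subtype.ext (by simpa [hzX] using pow_orderOf_eq_one (z : X))
      rcases EqualConj4.quaternion_involution _ hz2 with h2 | h2
      · rw [MulEquiv.map_eq_one_iff] at h2
        have := congrArg Subtype.val h2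
        simp only [Subgroup.coe_one] at this
        rw [this, orderOf_one] at hzX
        norm_num at hzX
      · rw [← map_pow, ← h2] at h1
        have := congrArg Subtype.val (eT.injective h1)
        rw [Subgroup.coe_pow] at this
        simp only at this
        rw [this]
        exact z.2
  -- the quotient
  let Tb : Sylow 2 (X ⧸ Z) := T.mapSurjective (QuotientGroup.mk'_surjective Z)
  have hTb : Nat.card (Tb : Subgroup (X ⧸ Z)) = 4 := by
    show Nat.card ((T : Subgroup X).map (QuotientGroup.mk' Z)) = 4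
    have h1 := Subgroup.card_mul_index (Z.subgroupOf (T : Subgroup X))
    have h8 : Nat.card (T : Subgroup X) = 8 := by
      rw [Nat.card_congr eT.toEquiv, Nat.card_eq_fintype_card, QuaternionGroup.card]
    rw [Nat.card_congr (subgroupOfEquivOfLe hZT).toEquiv, hZ2, h8] at h1
    have h2 : Nat.card ((T : Subgroup X).map (QuotientGroup.mk' Z)) =
        Z.relIndex (T : Subgroup X) := by
      have h3 := (T : Subgroup X).relIndex_ker (QuotientGroup.mk' Z)
      rw [QuotientGroup.ker_mk'] at h3
      exact h3.symm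
    rw [h2]
    show (Z.subgroupOf (T : Subgroup X)).index = 4
    omega
  have helb : Cfsg.IsElementaryAbelian 2 (Tb : Subgroup (X ⧸ Z)) := by
    have he : ∀ a ∈ (Tb : Subgroup (X ⧸ Z)), a ^ 2 = 1 := by
      rintro _ ⟨t, ht, rfl⟩
      rw [← map_pow, QuotientGroup.mk'_apply, QuotientGroup.eq_one_iff]
      exact hsq t ht
    exact ⟨IsPGroup.isMulCommutative_of_card_eq_prime_sq (p := 2) (by rw [hTb]; norm_num), he⟩
  have hOb : Cfsg.oddCore (X ⧸ Z) = ⊥ := by
    set O := Cfsg.oddCore (X ⧸ Z)
    set C := O.comap (QuotientGroup.mk' Z)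
    have hZC : Z ≤ C := fun x hx => by
      show QuotientGroup.mk' Z x ∈ O
      rw [QuotientGroup.mk'_apply, (QuotientGroup.eq_one_iff x).2 hx]
      exact one_mem _
    have hCeq : C = Z := by
      refine EqualConj4.eq_of_central hO hZC (fun t ht c _ => (Subgroup.mem_center_iff.1 ht c).symm)
        (IsPGroup.of_card (n := 1) (by rw [hZ2, pow_one])) ?_
      have h1 : Z.relIndex C = Nat.card O := by
        have h3 := C.relIndex_ker (QuotientGroup.mk' Z)
        rw [QuotientGroup.ker_mk',
          map_comap_eq_self_of_surjective (QuotientGroup.mk'_surjective Z)] at h3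
        exact h3
      rw [h1, Nat.odd_iff, ← Nat.two_dvd_ne_zero]
      exact Cores.not_dvd_card_pPrimeCore 2
    rw [← map_comap_eq_self_of_surjective (QuotientGroup.mk'_surjective Z) O]
    show C.map (QuotientGroup.mk' Z) = ⊥
    rw [hCeq, Subgroup.map_eq_bot_iff, QuotientGroup.ker_mk']
  have hout := outcome_of_elementary hK hO₁ (h.quotient Z) hOb Tb helb (le_refl 2) (by rw [hTb]; norm_num)
  rcases hout with ⟨-, p, hp, h8, hb⟩ | ⟨h32, -⟩
  swap
  · omega
  haveI := hp
  refine Or.inr (Or.inr (Or.inr (Or.inr (Or.inr (Or.inr (Or.inr ⟨p, hp, h8, Or.inr (Or.inr ?_)⟩))))))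
  have hcardX : Nat.card X = Nat.card (X ⧸ Z) * 2 := by
    rw [← hZ2]; exact Subgroup.card_eq_card_quotient_mul_card_subgroup Z
  have hQ : ∀ P : Sylow 2 X, Nonempty ((P : Subgroup X) ≃* QuaternionGroup 2) :=
    fun P => ⟨(Sylow.equiv P T).trans eT⟩
  -- all involutions are central
  have hinv : ∀ a : X, orderOf a = 2 → a ∈ Z := fun a ha =>
    h.mem_normal Nat.prime_two (N := Z) z.2 hzX ha
  have lift : ∀ (F : Type) [Field F] [Fintype F], Odd (Fintype.card F) → 3 < Fintype.card F →
      Fintype.card F ≠ 9 → Nonempty (X ⧸ Z ≃* Matrix.ProjectiveSpecialLinearGroup (Fin 2) F) →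
      Nonempty (X ≃* Matrix.SpecialLinearGroup (Fin 2) F) := by
    intro F _ _ ho h3 h9 he
    obtain ⟨e⟩ := he
    have hker : (e.toMonoidHom.comp (QuotientGroup.mk' Z)).ker = Z := by
      rw [← MonoidHom.comap_ker, (MonoidHom.ker_eq_bot_iff _).2 e.injective, MonoidHom.comap_bot,
        QuotientGroup.ker_mk']
    exact BC77.QuatCyclic.nonempty_equiv_SL ho h3 h9 (e.toMonoidHom.comp (QuotientGroup.mk' Z))
      (e.surjective.comp (QuotientGroup.mk'_surjective Z)) (le_of_eq hker) (by rw [hker]; exact hZ2)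
      (fun a ha => hker.symm ▸ hinv a ha)
  have hpodd : Odd p := Nat.odd_iff.2 (by omega)
  rcases hb with hb | hb
  · refine Or.inl ?_
    by_cases hp3 : p = 3
    swap
    · exact lift (ZMod p) (by rwa [ZMod.card]) (by rw [ZMod.card]; omega) (by rw [ZMod.card]; omega) hb
    subst hp3
    obtain ⟨f⟩ := GWConsumers70.nonempty_psl_three
    obtain ⟨e⟩ : Nonempty (X ⧸ Z ≃* alternatingGroup (Fin 4)) := hb.map fun g => g.trans f
    have h24 : Nat.card X = 24 := by
      rw [hcardX, Nat.card_congr e.toEquiv, nat_card_alternatingGroup, Nat.card_fin]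
      norm_num [Nat.factorial]
    haveI : Group.IsSolvable X := Spectrum.isSolvable_of_card_lt_sixty _ rfl (by omega)
    have hK2 : ∀ M : Subgroup X, M.index ≠ 2 := by
      intro M hM
      haveI : M.Normal := normal_of_index_eq_two hM
      by_cases hZM : Z ≤ M
      · refine EqualConj4.not_index_two_alt ⟨e⟩ (M.map (QuotientGroup.mk' Z)) ?_
        rw [index_map_eq M (QuotientGroup.mk'_surjective Z) (by rwa [QuotientGroup.ker_mk'])]
        exact hM
      · have hM12 : 2 ∣ Nat.card M := by
          have := M.card_mul_index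
          rw [hM, h24] at this
          exact ⟨6, by omega⟩
        obtain ⟨m, hm⟩ := exists_prime_orderOf_dvd_card' (G := M) 2 hM12
        obtain ⟨g, hg⟩ := h.conj_involution (a := (m : X)) (b := (z : X))
          (by rw [Subgroup.orderOf_coe, hm]) hzX
        refine hZM ?_
        rw [← hzz, zpowers_le, ← hg]
        exact (inferInstance : M.Normal).conj_mem m m.2 g
    obtain ⟨-, -, i, j, g, hrel, hgen, -⟩ := GWConsumers31.exists_slRel hO hK2
      (fun P => ⟨1, le_rfl, by simpa using hQ P⟩)
    exact PGroups.nonempty_sl_equiv hrel hgen h24.ge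
  · letI : Fintype (GaloisField p 3) := Fintype.ofFinite _
    have hc : Fintype.card (GaloisField p 3) = p ^ 3 := by
      rw [← Nat.card_eq_fintype_card, GaloisField.card p 3 (by norm_num)]
    have h27 : 3 ^ 3 ≤ p ^ 3 := Nat.pow_le_pow_left (by omega) 3
    exact Or.inr (lift (GaloisField p 3) (hc ▸ hpodd.pow) (by omega) (by omega) hb)

/-- The statement of row S4019, modulo Walter's theorem and the order theorem. -/
theorem main4019 (hK : Walter.PropKnown.{u}) (hO₁ : Walter.PropOrder.{u})
    {G : Type u} [Group G] [Finite G] (hD : PEC G) : Good (G ⧸ Cfsg.oddCore G) := by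
  haveI : Fact (Nat.Prime 2) := ⟨Nat.prime_two⟩
  have h := hD.quotient (Cfsg.oddCore G)
  have hO : Cfsg.oddCore (G ⧸ Cfsg.oddCore G) = ⊥ := Cores.pPrimeCore_quotient_pPrimeCore 2
  let T : Sylow 2 (G ⧸ Cfsg.oddCore G) := default
  rcases Cfsg.Agent.S4020.result h T with hT | hT | eT
  · exact Or.inl (EqualConj4.cyclic_case hO T hT)
  · obtain ⟨n, hn⟩ := IsPGroup.iff_card.1 T.isPGroup'
    by_cases h2 : 2 ≤ n
    · exact (outcome_of_elementary hK hO₁ h hO T hT h2 hn).good
    · refine Or.inl (EqualConj4.cyclic_case hO T ?_)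
      interval_cases n
      · haveI : Subsingleton (T : Subgroup (G ⧸ Cfsg.oddCore G)) :=
          (Nat.card_eq_one_iff_unique.1 (by simpa using hn)).1
        infer_instance
      · exact isCyclic_of_prime_card (p := 2) (by simpa using hn)
  · obtain ⟨eT⟩ := eT
    exact quaternion_case hK hO₁ h hO T eT

end Cfsg.Agent.Lib.EqualPrime77
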