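import Cfsg.Agent.Lib.EqualPrime77.Basic
import Cfsg.Agent.Lib.GWConsumers70.Almost

/-!
# A normal elementary Sylow 2-subgroup

After `EqualConj4.Normal`.  Owner: helper77.
-/

set_option autoImplicit false
set_option linter.style.haveILetI false

universe u

namespace Cfsg.Agent.Lib.EqualPrime77

open Subgroup

variable {X : Type u} [Group X] [Finite X]

/-- A normal Sylow 2-subgroup. -/
theorem outcome_of_normal (h : PEC X) (hO : Cfsg.oddCore X = ⊥) (T : Sylow 2 X)
    [hTn : (T : Subgroup X).Normal] (hel : Cfsg.IsElementaryAbelian 2 (T : Subgroup X)) {n : ℕ}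
    (hn : 2 ≤ n) (hcard : Nat.card T = 2 ^ n) : Outcome n X := by
  haveI : Fact (Nat.Prime 2) := ⟨Nat.prime_two⟩
  haveI := EqualConj4.isSolvable_of_normal hel.1
  rcases Nat.lt_or_ge n 3 with h3 | h3
  · obtain rfl : n = 2 := by omega
    refine Or.inl ⟨rfl, ?_⟩
    suffices hA : Nonempty (X ≃* alternatingGroup (Fin 4)) by
      obtain ⟨eA⟩ := hA
      obtain ⟨f⟩ := GWConsumers70.nonempty_psl_three
      exact ⟨3, ⟨Nat.prime_three⟩, Or.inl rfl, Or.inl ⟨eA.trans f.symm⟩⟩
    -- the centraliser of `T`
    have hC : centralizer ((T : Subgroup X) : Set X) = (T : Subgroup X) := by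
      refine EqualConj4.eq_of_central hO (le_centralizer_iff_isMulCommutative.2 hel.1) ?_ T.isPGroup' ?_
      · intro t ht c hc
        exact mem_centralizer_iff.1 hc t ht
      · exact (EqualConj4.odd_index_sylow T).of_dvd_nat (relIndex_dvd_index_of_normal _ _)
    -- the action on `T`
    set φ : X →* MulAut (T : Subgroup X) := MulAut.conjNormal
    have hker : φ.ker = (T : Subgroup X) := by
      refine Eq.trans ?_ hC
      ext x
      rw [MonoidHom.mem_ker, mem_centralizer_iff]
      constructor
      · intro hx t ht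
        have h1 : ((φ x ⟨t, ht⟩ : (T : Subgroup X)) : X) = t := by rw [hx]; rfl
        rw [MulAut.conjNormal_apply] at h1
        calc t * x = x * t * x⁻¹ * x := by rw [h1]
          _ = x * t := by rw [inv_mul_cancel_right]
      · intro hx
        refine MulEquiv.ext fun t => Subtype.ext ?_
        rw [MulAut.conjNormal_apply, MulAut.one_apply, ← hx (t : X) t.2, mul_inv_cancel_right]
    let ψ : MulAut (T : Subgroup X) →* Equiv.Perm (T : Subgroup X) :=
      { toFun := fun a => a.toEquiv
        map_one' := rfl
        map_mul' := fun a b => rfl }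
    have hψ : Function.Injective ψ := fun a b hab => MulEquiv.toEquiv_injective hab
    have h24 : (T : Subgroup X).index ∣ 24 := by
      have h1 : Nat.card φ.range ∣ Nat.card (Equiv.Perm (T : Subgroup X)) :=
        (card_subgroup_dvd_card φ.range).trans (Subgroup.card_dvd_of_injective ψ hψ)
      rw [← index_ker, hker, Nat.card_perm, hcard] at h1
      exact h1
    have hco : Nat.Coprime (T : Subgroup X).index 8 :=
      Nat.Coprime.pow_right 3 (EqualConj4.odd_index_sylow T).coprime_two_right
    have h13 : (T : Subgroup X).index ∣ 3 := hco.dvd_of_dvd_mul_right (by norm_num; exact h24)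
    have hmul := (T : Subgroup X).card_mul_index
    rw [hcard] at hmul
    rcases (Nat.dvd_prime Nat.prime_three).1 h13 with h1 | h1
    · -- `X = T`: involutions would be central
      exfalso
      rw [index_eq_one] at h1
      haveI : Nontrivial (T : Subgroup X) := Finite.one_lt_card_iff_nontrivial.1 (by
        rw [hcard]; norm_num)
      obtain ⟨a, ha1⟩ := exists_ne (1 : (T : Subgroup X))
      have hfix : ∀ g : X, g * (a : X) * g⁻¹ = a := fun g => by
        have hg : g ∈ (T : Subgroup X) := h1 ▸ mem_top g
        have := congrArg Subtype.val (hel.1.is_comm.comm ⟨g, hg⟩ a)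
        simp only [Subgroup.coe_mul] at this
        rw [this, mul_inv_cancel_right]
      have h2 := card_le_two_of_central h hel
        (EqualConj4.orderOf_eq_two_of_mem hel a.2 fun h' => ha1 (Subtype.ext h')) hfix
      rw [hcard] at h2
      norm_num at h2
    · have h12 : Nat.card X = 12 := by rw [← hmul, h1]; norm_num
      refine DicksonId.nonempty_alt_four h12 (fun N hN hN3 => ?_) (fun N hN hN2 => ?_)
      · have hb : N ≠ ⊥ := by rintro rfl; simp at hN3
        obtain ⟨x, hxN, hx⟩ := EqualConj4.exists_involution_of_normal hO hb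
        have := Subgroup.orderOf_dvd_natCard N hxN
        rw [hx, hN3] at this
        omega
      · have hb : N ≠ ⊥ := by rintro rfl; simp at hN2
        obtain ⟨x, hxN, hx⟩ := EqualConj4.exists_involution_of_normal hO hb
        have hz : zpowers x = N := Subgroup.eq_of_le_of_card_ge (zpowers_le.2 hxN)
          (by rw [Nat.card_zpowers, hx, hN2])
        have hfix : ∀ g : X, g * x * g⁻¹ = x := fun g => by
          have h1 : g * x * g⁻¹ ∈ zpowers x := hz ▸ hN.conj_mem x hxN g
          obtain ⟨k, hk⟩ := mem_zpowers_iff.1 h1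
          rw [← zpow_mod_orderOf, hx] at hk
          rcases Int.emod_two_eq_zero_or_one k with h0 | h0
          · rw [Nat.cast_ofNat, h0, zpow_zero, eq_comm, conj_eq_one_iff] at hk
            simp [hk] at hx
          · rw [Nat.cast_ofNat, h0, zpow_one] at hk
            exact hk.symm
        have h2 := card_le_two_of_central h hel hx hfix
        rw [hcard] at h2
        norm_num at h2
  · refine Or.inr ⟨h3, ?_⟩
    have hbot : Cfsg.pPrimeCore 2 (⊤ : Subgroup X) = ⊥ := by
      rw [← Cores.map_pPrimeCore_equiv Subgroup.topEquiv.symm, show Cfsg.pPrimeCore 2 X = ⊥ from hO,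
        Subgroup.map_bot]
    let e : X ≃* (⊤ : Subgroup X) ⧸ Cfsg.pPrimeCore 2 (⊤ : Subgroup X) :=
      Subgroup.topEquiv.symm.trans
        ((QuotientGroup.quotientBot).symm.trans (QuotientGroup.quotientMulEquivOfEq hbot.symm))
    have := Cfsg.Agent.S4025.result (h 2 Nat.prime_two) T n h3 hel hcard ⊤
      (normalizer_eq_top_iff.2 hTn).symm inferInstance
    rcases this with ⟨-, -, h8⟩ | ⟨-, -, ⟨g⟩⟩
    · rcases h8 rfl with hg | hg
      · exact Or.inr (Or.inr (Or.inl (hg.map fun g => e.trans g)))
      · exact Or.inr (Or.inl (hg.map fun g => e.trans g))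
    · exact Or.inr (Or.inr (Or.inr (Or.inl ⟨e.trans g⟩)))

end Cfsg.Agent.Lib.EqualPrime77
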